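import Mathlib

/-!
Generators `c` (order five) and `x` of the groups of order 320 of the shape `2^(2+4) : 5`, and the
pullback bound that makes any two such groups isomorphic.
-/

set_option autoImplicit false

open Subgroup
open scoped commutatorElement Pointwise

namespace CfsgLib.U34Cent

variable {G : Type*} [Group G]

/-- The relations satisfied by the generators. -/
structure Gen (c x : G) : Prop where
  c5 : c ^ 5 = 1
  cen1 : ⁅x, c * x * c⁻¹⁆ ∈ center G
  cen2 : ⁅x, c ^ 2 * x * (c ^ 2)⁻¹⁆ ∈ center G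
  inv1 : ⁅x, c * x * c⁻¹⁆ ^ 2 = 1
  inv2 : ⁅x, c ^ 2 * x * (c ^ 2)⁻¹⁆ ^ 2 = 1
  sq : x ^ 2 ∈ center G
  four : x ^ 4 = 1
  rel : c ^ 4 * x * (c ^ 4)⁻¹ =
    x * (c * x * c⁻¹) * (c ^ 2 * x * (c ^ 2)⁻¹) * (c ^ 3 * x * (c ^ 3)⁻¹)

theorem card_sup_le_of_normalizer [Finite G] (H N : Subgroup G) (h : H ≤ normalizer (N : Set G)) :
    Nat.card ↥(H ⊔ N) ≤ Nat.card H * Nat.card N := by
  rw [← Nat.card_prod]
  refine Nat.card_le_card_of_surjective (fun z : ↥H × ↥N => (⟨z.1 * z.2,
    mul_mem_sup z.1.2 z.2.2⟩ : ↥(H ⊔ N))) ?_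
  rintro ⟨w, hw⟩
  have hw' : w ∈ ((H ⊔ N : Subgroup G) : Set G) := hw
  rw [coe_mul_of_left_le_normalizer_right H N h] at hw'
  obtain ⟨u, hu, v, hv, rfl⟩ := hw'
  exact ⟨(⟨u, hu⟩, ⟨v, hv⟩), rfl⟩

theorem card_zpowers_le {g : G} {n : ℕ} (hn : 0 < n) (h : g ^ n = 1) :
    Nat.card ↥(zpowers g) ≤ n := by
  rw [Nat.card_zpowers]
  exact orderOf_le_of_pow_eq_one hn h

theorem card_sup_zpowers_le [Finite G] {g : G} {n : ℕ} (hn : 0 < n) (h : g ^ n = 1) (K : Subgroup G)
    (hg : g ∈ normalizer (K : Set G)) {m : ℕ} (hm : Nat.card K ≤ m) :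
    Nat.card ↥(zpowers g ⊔ K) ≤ n * m :=
  (card_sup_le_of_normalizer _ _ (zpowers_le.mpr hg)).trans
    (Nat.mul_le_mul (card_zpowers_le hn h) hm)

/-- The image of the pair generates a group of order at most 80. -/
theorem card_le_of_commute [Finite G] (C X : G) (hC : C ^ 5 = 1)
    (h1 : Commute X (C * X * C⁻¹)) (h2 : Commute X (C ^ 2 * X * (C ^ 2)⁻¹))
    (hsq : ∀ g : G, Commute (X ^ 2) g) (hfour : X ^ 4 = 1)
    (hrel : C ^ 4 * X * (C ^ 4)⁻¹ =
      X * (C * X * C⁻¹) * (C ^ 2 * X * (C ^ 2)⁻¹) * (C ^ 3 * X * (C ^ 3)⁻¹)) :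
    Nat.card ↥(closure ({C, X} : Set G)) ≤ 80 := by
  let Y : ℕ → G := fun i => C ^ i * X * (C ^ i)⁻¹
  have hY0 : Y 0 = X := by simp [Y]
  have hshift : ∀ i, C * Y i * C⁻¹ = Y (i + 1) := fun i => by
    simp only [Y, pow_succ', mul_inv_rev]; group
  have hper : ∀ i, Y (i + 5) = Y i := fun i => by
    simp only [Y, pow_add, hC, mul_one]
  have hcomm1 : ∀ i, Commute (Y i) (Y (i + 1)) := fun i => by
    have e : Y (i + 1) = C ^ i * (C * X * C⁻¹) * (C ^ i)⁻¹ := by
      simp only [Y, pow_succ, mul_inv_rev]; group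
    rw [e]
    exact (Commute.conj_iff _).mpr h1
  have hcomm2 : ∀ i, Commute (Y i) (Y (i + 2)) := fun i => by
    have e : Y (i + 2) = C ^ i * (C ^ 2 * X * (C ^ 2)⁻¹) * (C ^ i)⁻¹ := by
      simp only [Y, pow_add, mul_inv_rev]; group
    rw [e]
    exact (Commute.conj_iff _).mpr h2
  have c01 : Commute (Y 0) (Y 1) := hcomm1 0
  have c02 : Commute (Y 0) (Y 2) := hcomm2 0
  have c12 : Commute (Y 1) (Y 2) := hcomm1 1
  have c13 : Commute (Y 1) (Y 3) := hcomm2 1
  have c23 : Commute (Y 2) (Y 3) := hcomm1 2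
  have c03 : Commute (Y 0) (Y 3) := by
    have := hcomm2 3
    rw [show 3 + 2 = 0 + 5 from rfl, hper] at this
    exact this.symm
  have hY4 : Y 4 = Y 0 * Y 1 * Y 2 * Y 3 := by
    rw [hY0]; simpa [Y, pow_one] using hrel
  have hsqY : ∀ i, Y i ^ 2 = X ^ 2 := fun i => by
    simp only [Y, conj_pow]
    rw [← (hsq (C ^ i)).eq, mul_inv_cancel_right]
  have hX2 : X ^ 2 = 1 := by
    have h5 : Y 5 = Y 1 * Y 2 * Y 3 * Y 4 :=
      calc Y 5 = C * Y 4 * C⁻¹ := (hshift 4).symm
        _ = (C * Y 0 * C⁻¹) * (C * Y 1 * C⁻¹) * (C * Y 2 * C⁻¹) * (C * Y 3 * C⁻¹) := by rw [hY4]; group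
        _ = Y 1 * Y 2 * Y 3 * Y 4 := by rw [hshift, hshift, hshift, hshift]
    have h6 : Y 0 = Y 0 * (Y 1 ^ 2 * Y 2 ^ 2 * Y 3 ^ 2) := by
      calc Y 0 = Y 5 := (hper 0).symm
        _ = Y 1 * Y 2 * Y 3 * (Y 0 * Y 1 * Y 2 * Y 3) := by rw [h5, hY4]
        _ = Y 0 * (Y 1 * Y 2 * Y 3 * (Y 1 * Y 2 * Y 3)) := by
          have hc : Commute (Y 1 * Y 2 * Y 3) (Y 0) :=
            ((c01.symm.mul_left c02.symm).mul_left c03.symm)
          rw [show Y 0 * Y 1 * Y 2 * Y 3 = Y 0 * (Y 1 * Y 2 * Y 3) by group,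
            ← mul_assoc, hc.eq, mul_assoc]
        _ = Y 0 * (Y 1 ^ 2 * Y 2 ^ 2 * Y 3 ^ 2) := by
          rw [← sq, (c13.mul_left c23).mul_pow, c12.mul_pow]
    rw [hsqY, hsqY, hsqY, left_eq_mul] at h6
    calc X ^ 2 = X ^ 2 * X ^ 4 := by rw [hfour, mul_one]
      _ = X ^ 2 * X ^ 2 * X ^ 2 := by simp only [← pow_add]
      _ = 1 := h6
  have hY2 : ∀ i, Y i ^ 2 = 1 := fun i => (hsqY i).trans hX2
  have hnorm : ∀ {g h : G}, Commute g h → g ∈ normalizer (zpowers h : Set G) := fun {g h} hgh =>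
    mem_normalizer_fintype fun n hn => by
      obtain ⟨k, rfl⟩ := mem_zpowers_iff.mp hn
      rw [(hgh.zpow_right k).eq, mul_inv_cancel_right]
      exact hn
  have hnorm' : ∀ {g : G} {H K : Subgroup G}, g ∈ normalizer (H : Set G) →
      g ∈ normalizer (K : Set G) → g ∈ normalizer ((H ⊔ K : Subgroup G) : Set G) := fun {g H K} a b => by
    refine mem_normalizer_fintype fun n hn => ?_
    have : ((H ⊔ K : Subgroup G)).map (MulAut.conj g).toMonoidHom ≤ H ⊔ K := by
      rw [Subgroup.map_sup]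
      exact sup_le_sup (map_le_iff_le_comap.mpr fun y hy => (mem_normalizer_iff.mp a y).mp hy)
        (map_le_iff_le_comap.mpr fun y hy => (mem_normalizer_iff.mp b y).mp hy)
    exact this ⟨n, hn, rfl⟩
  let K : Subgroup G := zpowers (Y 0) ⊔ (zpowers (Y 1) ⊔ (zpowers (Y 2) ⊔ zpowers (Y 3)))
  have hm : ∀ {g : G} {n : ℕ}, g ^ n = 1 → 0 < n → Nat.card ↥(zpowers g) ≤ n :=
    fun h hn => card_zpowers_le hn h
  have hK : Nat.card K ≤ 2 * (2 * (2 * 2)) := by
    refine card_sup_zpowers_le two_pos (hY2 0) _ (hnorm' (hnorm c01) (hnorm' (hnorm c02) (hnorm c03))) ?_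
    refine card_sup_zpowers_le two_pos (hY2 1) _ (hnorm' (hnorm c12) (hnorm c13)) ?_
    exact card_sup_zpowers_le two_pos (hY2 2) _ (hnorm c23) (hm (hY2 3) two_pos)
  have e0 : Y 0 ∈ K := le_sup_left (a := zpowers (Y 0)) (mem_zpowers _)
  have e1 : Y 1 ∈ K := mem_sup_right (mem_sup_left (mem_zpowers _))
  have e2 : Y 2 ∈ K := mem_sup_right (mem_sup_right (mem_sup_left (mem_zpowers _)))
  have e3 : Y 3 ∈ K := mem_sup_right (mem_sup_right (mem_sup_right (mem_zpowers _)))
  have e4 : Y 4 ∈ K := by rw [hY4]; exact mul_mem (mul_mem (mul_mem e0 e1) e2) e3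
  have hCK : C ∈ normalizer (K : Set G) := by
    refine mem_normalizer_fintype fun n hn => ?_
    have hs : ∀ i, Y i ∈ K → Y (i + 1) ∈ K → zpowers (Y i) ≤ K.comap (MulAut.conj C).toMonoidHom :=
      fun i _ h => zpowers_le.mpr (by
        rw [mem_comap]
        show C * Y i * C⁻¹ ∈ K
        rwa [hshift])
    have : K ≤ K.comap (MulAut.conj C).toMonoidHom :=
      sup_le (hs 0 e0 e1) (sup_le (hs 1 e1 e2) (sup_le (hs 2 e2 e3) (hs 3 e3 e4)))
    exact this hn
  have hle : closure ({C, X} : Set G) ≤ zpowers C ⊔ K := (closure_le _).mpr (by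
    rintro g (rfl | rfl)
    · exact mem_sup_left (mem_zpowers _)
    · exact mem_sup_right (hY0 ▸ e0))
  calc Nat.card ↥(closure ({C, X} : Set G)) ≤ Nat.card ↥(zpowers C ⊔ K) :=
        Nat.card_le_card_of_injective _ (Subgroup.inclusion_injective hle)
    _ ≤ 5 * (2 * (2 * (2 * 2))) := card_sup_zpowers_le (by norm_num) hC K hCK hK

/-- The subgroup generated by the two commutators. -/
def commW (c x : G) : Subgroup G :=
  closure {⁅x, c * x * c⁻¹⁆, ⁅x, c ^ 2 * x * (c ^ 2)⁻¹⁆}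

theorem Gen.commW_le_center {c x : G} (h : Gen c x) : commW c x ≤ center G :=
  (closure_le _).mpr (by rintro g (rfl | rfl); exacts [h.cen1, h.cen2])

theorem Gen.card_commW_le [Finite G] {c x : G} (h : Gen c x) : Nat.card ↥(commW c x) ≤ 4 := by
  rw [commW, Set.insert_eq, Subgroup.closure_union, ← zpowers_eq_closure, ← zpowers_eq_closure]
  refine card_sup_zpowers_le two_pos h.inv1 _ ?_ (card_zpowers_le two_pos h.inv2)
  refine mem_normalizer_fintype fun n hn => ?_
  rw [(mem_center_iff.mp h.cen1 n).symm, mul_inv_cancel_right]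
  exact hn

theorem Gen.card_closure_le' [Finite G] {c x : G} (h : Gen c x) :
    Nat.card ↥(closure ({c, x} : Set G)) ≤ Nat.card ↥(commW c x) * 80 := by
  haveI : (commW c x).Normal := Subgroup.Normal.mk fun n hn g => by
    rw [mem_center_iff.mp (h.commW_le_center hn) g, mul_inv_cancel_right]
    exact hn
  let π := QuotientGroup.mk' (commW c x)
  have hk : ∀ g, π g = 1 ↔ g ∈ commW c x := fun g => QuotientGroup.eq_one_iff g
  have hcen : ∀ {g : G}, g ∈ center G → ∀ y, Commute (π g) y := fun {g} hg y => by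
    obtain ⟨y, rfl⟩ := QuotientGroup.mk'_surjective _ y
    show π g * π y = π y * π g
    rw [← map_mul, ← map_mul, mem_center_iff.mp hg y]
  have h1 : Commute (π x) (π c * π x * (π c)⁻¹) := commutatorElement_eq_one_iff_commute.mp (by
    rw [← map_inv, ← map_mul, ← map_mul, ← map_commutatorElement, hk]
    exact subset_closure (Set.mem_insert _ _))
  have h2 : Commute (π x) (π c ^ 2 * π x * (π c ^ 2)⁻¹) := commutatorElement_eq_one_iff_commute.mp (by
    rw [← map_pow, ← map_inv, ← map_mul, ← map_mul, ← map_commutatorElement, hk]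
    exact subset_closure (Set.mem_insert_of_mem _ rfl))
  have h80 : Nat.card ↥((closure ({c, x} : Set G)).map π) ≤ 80 := by
    rw [MonoidHom.map_closure, Set.image_pair]
    refine card_le_of_commute _ _ ?_ h1 h2 ?_ ?_ ?_
    · rw [← map_pow, h.c5, map_one]
    · intro g; rw [← map_pow]; exact hcen h.sq g
    · rw [← map_pow, h.four, map_one]
    · simpa only [map_mul, map_inv, map_pow] using congrArg π h.rel
  let f := π.subgroupMap (closure ({c, x} : Set G))
  have hf : Function.Surjective f := π.subgroupMap_surjective _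
  have hker : Nat.card f.ker ≤ Nat.card ↥(commW c x) := by
    refine Nat.card_le_card_of_injective (fun z => (⟨((z : ↥(closure ({c, x} : Set G))) : G),
      (hk _).mp (congrArg Subtype.val (MonoidHom.mem_ker.mp z.2))⟩ : ↥(commW c x))) ?_
    intro a b hab
    exact Subtype.ext (Subtype.ext (congrArg (fun w : ↥(commW c x) => (w : G)) hab))
  rw [card_eq_card_quotient_mul_card_subgroup f.ker,
    Nat.card_congr (QuotientGroup.quotientKerEquivOfSurjective f hf).toEquiv, mul_comm]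
  exact Nat.mul_le_mul hker h80

theorem Gen.card_closure_le [Finite G] {c x : G} (h : Gen c x) :
    Nat.card ↥(closure ({c, x} : Set G)) ≤ 320 :=
  h.card_closure_le'.trans (Nat.mul_le_mul_right 80 h.card_commW_le)

theorem Gen.prod {H : Type*} [Group H] {c x : G} {c' x' : H} (h : Gen c x) (h' : Gen c' x') :
    Gen (c, c') (x, x') := by
  have hc : ∀ {a : G} {b : H}, a ∈ center G → b ∈ center H → (a, b) ∈ center (G × H) :=
    fun ha hb => mem_center_iff.mpr fun g =>
      Prod.ext (mem_center_iff.mp ha g.1) (mem_center_iff.mp hb g.2)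
  exact ⟨Prod.ext h.c5 h'.c5, hc h.cen1 h'.cen1, hc h.cen2 h'.cen2, Prod.ext h.inv1 h'.inv1,
    Prod.ext h.inv2 h'.inv2, hc h.sq h'.sq, Prod.ext h.four h'.four, Prod.ext h.rel h'.rel⟩

/-- A group of order 320 generated by such a pair maps onto any group generated by such a pair. -/
theorem exists_hom_of_gen [Finite G] {H : Type*} [Group H] [Finite H] {c x : G} {c' x' : H}
    (h : Gen c x) (h' : Gen c' x') (hgen : closure ({c, x} : Set G) = ⊤) (hcard : Nat.card G = 320) :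
    ∃ ψ : G →* H, ψ c = c' ∧ ψ x = x' := by
  let D := closure ({(c, c'), (x, x')} : Set (G × H))
  let f : ↥D →* G := (MonoidHom.fst G H).comp D.subtype
  have hs : Function.Surjective f := by
    rw [← MonoidHom.range_eq_top, eq_top_iff, ← hgen, closure_le]
    rintro g (rfl | rfl)
    · exact ⟨⟨(g, c'), subset_closure (Set.mem_insert _ _)⟩, rfl⟩
    · exact ⟨⟨(g, x'), subset_closure (Set.mem_insert_of_mem _ rfl)⟩, rfl⟩
  have hb : Function.Bijective f := hs.bijective_of_nat_card_le (hcard ▸ (h.prod h').card_closure_le)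
  let e := MulEquiv.ofBijective f hb
  refine ⟨((MonoidHom.snd G H).comp D.subtype).comp e.symm.toMonoidHom, ?_, ?_⟩
  · have : e.symm c = ⟨(c, c'), subset_closure (Set.mem_insert _ _)⟩ := e.symm_apply_eq.mpr rfl
    exact congrArg (fun z : ↥D => (z : G × H).2) this
  · have : e.symm x = ⟨(x, x'), subset_closure (Set.mem_insert_of_mem _ rfl)⟩ := e.symm_apply_eq.mpr rfl
    exact congrArg (fun z : ↥D => (z : G × H).2) this

theorem Gen.commW_card_eq [Finite G] {c x : G} (h : Gen c x) (hgen : closure ({c, x} : Set G) = ⊤)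
    (hcard : Nat.card G = 320) : Nat.card ↥(commW c x) = 4 := by
  have h1 := h.card_closure_le'
  rw [hgen, Subgroup.card_top, hcard] at h1
  have h2 := h.card_commW_le
  omega

end CfsgLib.U34Cent
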