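import Cfsg.Agent.Lib.U34Cent.Gen

/-!
A group of order 320 whose derived subgroup has order 64 with centre a four-group has generators
satisfying the relations `Gen`.
-/

set_option autoImplicit false

open Subgroup
open scoped commutatorElement Pointwise

namespace CfsgLib.U34Cent

variable {G : Type*} [Group G]

/-- If `G` is generated by an abelian derived subgroup and `c`, then `c` fixes only `1` there. -/
theorem eq_one_of_commute_derived [Finite G] {c : G}
    (hab : ∀ u ∈ commutator G, ∀ v ∈ commutator G, Commute u v)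
    (hgen : ∀ g : G, ∃ k : ℤ, ∃ a ∈ commutator G, g = c ^ k * a)
    {v : G} (hv : v ∈ commutator G) (hcv : Commute c v) : v = 1 := by
  let φ : ↥(commutator G) →* G := MonoidHom.mk' (fun a => ⁅c, (a : G)⁆) fun a b => by
    have hn : c * (b : G) * c⁻¹ ∈ commutator G :=
      (inferInstance : (commutator G).Normal).conj_mem _ b.2 c
    have hcomm := hab _ (inv_mem a.2) _ (mul_mem hn (inv_mem b.2))
    simp only [Subgroup.coe_mul, commutatorElement_def, mul_inv_rev]
    calc c * ((a : G) * (b : G)) * c⁻¹ * ((b : G)⁻¹ * (a : G)⁻¹)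
        = (c * a * c⁻¹) * ((c * b * c⁻¹ * (b : G)⁻¹) * (a : G)⁻¹) := by group
      _ = (c * a * c⁻¹) * ((a : G)⁻¹ * (c * b * c⁻¹ * (b : G)⁻¹)) := by rw [hcomm.symm.eq]
      _ = c * a * c⁻¹ * (a : G)⁻¹ * (c * b * c⁻¹ * (b : G)⁻¹) := by group
  have hR : φ.range ≤ commutator G := by
    rintro _ ⟨a, rfl⟩
    exact commutator_mem_commutator (mem_top _) (mem_top _)
  have hsame : φ.range.Normal := by
    refine Subgroup.Normal.mk fun r hr g => ?_
    have hc : ∀ r ∈ φ.range, c * r * c⁻¹ ∈ φ.range := by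
      rintro _ ⟨a, rfl⟩
      exact ⟨⟨_, (inferInstance : (commutator G).Normal).conj_mem _ a.2 c⟩, by
        simp only [φ, MonoidHom.mk'_apply, commutatorElement_def]; group⟩
    have hcn : c ∈ normalizer (φ.range : Set G) := mem_normalizer_fintype hc
    obtain ⟨k, a, ha, rfl⟩ := hgen g
    have he : a * r * a⁻¹ = r := by rw [(hab _ ha _ (hR hr)).eq, mul_inv_cancel_right]
    rw [show c ^ k * a * r * (c ^ k * a)⁻¹ = c ^ k * (a * r * a⁻¹) * (c ^ k)⁻¹ by group, he]
    exact (mem_normalizer_iff.mp (zpow_mem hcn k) r).mp hr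
  let π := QuotientGroup.mk' φ.range
  have hca : ∀ a ∈ commutator G, Commute (π c) (π a) := fun a ha =>
    commutatorElement_eq_one_iff_commute.mp (by
      rw [← map_commutatorElement]
      exact (QuotientGroup.eq_one_iff _).mpr ⟨⟨a, ha⟩, rfl⟩)
  have hle : commutator G ≤ φ.range := by
    refine (_root_.commutator_def G).le.trans (Subgroup.commutator_le.mpr fun g _ h _ => ?_)
    obtain ⟨k, a, ha, rfl⟩ := hgen g
    obtain ⟨l, b, hb, rfl⟩ := hgen h
    apply (QuotientGroup.eq_one_iff _).mp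
    show π ⁅c ^ k * a, c ^ l * b⁆ = 1
    rw [map_commutatorElement, commutatorElement_eq_one_iff_commute]
    simp only [map_mul, map_zpow]
    exact Commute.mul_left
      (Commute.mul_right ((Commute.refl (π c)).zpow_zpow k l) ((hca b hb).zpow_left k))
      (Commute.mul_right ((hca a ha).symm.zpow_right l) ((hab a ha b hb).map π))
  have hinj : Function.Injective φ.rangeRestrict :=
    (φ.rangeRestrict_surjective.bijective_of_nat_card_le
      (card_le_of_le hle)).1
  exact congrArg Subtype.val (@hinj ⟨v, hv⟩ 1 (Subtype.ext (by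
    show φ ⟨v, hv⟩ = φ 1
    rw [map_one]
    exact commutatorElement_eq_one_iff_commute.mpr hcv)))

/-- Fixed points of an element of order five. -/
theorem card_fixed_modEq [Finite G] {c : G} (hc : c ^ 5 = 1) (B : Subgroup G)
    (hB : c ∈ normalizer (B : Set G)) :
    Nat.card B ≡ Nat.card {b : ↥B // Commute c (b : G)} [MOD 5] := by
  haveI : Fact (Nat.Prime 5) := ⟨by norm_num⟩
  have hZ : zpowers c ≤ normalizer (B : Set G) := zpowers_le.mpr hB
  letI : MulAction ↥(zpowers c) ↥B :=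
    { smul := fun z b => ⟨(z : G) * (b : G) * (z : G)⁻¹, (mem_normalizer_iff.mp (hZ z.2) (b : G)).mp b.2⟩
      one_smul := fun b => Subtype.ext (show (1 : G) * (b : G) * (1 : G)⁻¹ = b by simp)
      mul_smul := fun z w b => Subtype.ext
        (show ((z : G) * w) * (b : G) * ((z : G) * w)⁻¹ = (z : G) * ((w : G) * b * (w : G)⁻¹) * (z : G)⁻¹ by group) }
  have hp : IsPGroup 5 ↥(zpowers c) := fun z => ⟨1, by
    obtain ⟨k, hk⟩ := mem_zpowers_iff.mp z.2
    apply Subtype.ext
    rw [SubgroupClass.coe_pow, ← hk, pow_one, ← zpow_natCast, zpow_comm, zpow_natCast, hc, one_zpow]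
    rfl⟩
  have heq : Nat.card (MulAction.fixedPoints ↥(zpowers c) ↥B) = Nat.card {b : ↥B // Commute c (b : G)} := by
    refine Nat.card_congr (Equiv.subtypeEquivRight fun b => ?_)
    constructor
    · intro h
      have h1 : c * (b : G) * c⁻¹ = b := congrArg Subtype.val (h ⟨c, mem_zpowers c⟩)
      show c * b = b * c
      calc c * (b : G) = c * b * c⁻¹ * c := by group
        _ = b * c := by rw [h1]
    · rintro h ⟨z, hz⟩
      obtain ⟨k, rfl⟩ := mem_zpowers_iff.mp hz
      apply Subtype.ext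
      show c ^ k * (b : G) * (c ^ k)⁻¹ = b
      rw [(h.zpow_left k).eq, mul_inv_cancel_right]
  exact heq ▸ hp.card_modEq_card_fixedPoints ↥B

theorem eq_one_or_sixteen {n m : ℕ} (hm : m ≤ 6) (h : n ∣ 2 ^ m) (h5 : n ≡ 1 [MOD 5]) :
    n = 1 ∨ n = 16 := by
  obtain ⟨j, hj, rfl⟩ := (Nat.dvd_prime_pow Nat.prime_two).mp h
  have : j ≤ 6 := hj.trans hm
  interval_cases j <;> simp_all [Nat.ModEq]

theorem exists_gen [Finite G] (hG : Nat.card G = 320) (hD : Nat.card (commutator G) = 64)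
    (hZ : IsKleinFour (Subgroup.center (commutator G))) :
    ∃ c x : G, Gen c x ∧ closure ({c, x} : Set G) = ⊤ ∧ ∀ s ∈ center G, s ∈ commutator G →
      s ∈ commW c x := by
  haveI : Fact (Nat.Prime 2) := ⟨Nat.prime_two⟩
  haveI : Fact (Nat.Prime 5) := ⟨by norm_num⟩
  let S : Subgroup G := commutator G
  haveI hSn : S.Normal := (inferInstance : (commutator G).Normal)
  have hidx : Nat.card (G ⧸ S) = 5 := by
    have := card_eq_card_quotient_mul_card_subgroup S
    rw [hG, show Nat.card S = 64 from hD] at this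
    omega
  obtain ⟨c, hc⟩ := exists_prime_orderOf_dvd_card' (G := G) 5 (by rw [hG]; norm_num)
  have hc5 : c ^ 5 = 1 := hc ▸ pow_orderOf_eq_one c
  have hcS : c ∉ S := fun h => by
    have := orderOf_dvd_natCard (⟨c, h⟩ : ↥S)
    rw [← orderOf_coe, show Nat.card S = 64 from hD] at this
    simp only at this
    rw [hc] at this
    norm_num at this
  have hgen : ∀ g : G, ∃ k : ℤ, ∃ a ∈ S, g = c ^ k * a := fun g => by
    have htop := zpowers_eq_top_of_prime_card (g := (c : G ⧸ S)) hidx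
      (fun h => hcS ((QuotientGroup.eq_one_iff _).mp h))
    obtain ⟨k, hk⟩ := mem_zpowers_iff.mp (htop ▸ mem_top (g : G ⧸ S))
    refine ⟨k, (c ^ k)⁻¹ * g, ?_, by group⟩
    rw [← QuotientGroup.mk_zpow] at hk
    exact QuotientGroup.eq.mp hk
  let M : Subgroup G := ⁅S, S⁆
  haveI hMn : M.Normal := Subgroup.commutator_normal S S
  have hMS : M ≤ S := commutator_le_right S S
  let π := QuotientGroup.mk' M
  have hπ : Function.Surjective π := QuotientGroup.mk'_surjective M
  have hk : ∀ g, π g = 1 ↔ g ∈ M := fun g => QuotientGroup.eq_one_iff g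
  let A : Subgroup (G ⧸ M) := S.map π
  have hA : commutator (G ⧸ M) = A := by
    show _ = (commutator G).map π
    rw [commutator_def, commutator_def, map_commutator, map_top_of_surjective π hπ]
  have hab : ∀ u ∈ commutator (G ⧸ M), ∀ v ∈ commutator (G ⧸ M), Commute u v := by
    rw [hA]
    rintro _ ⟨u, hu, rfl⟩ _ ⟨v, hv, rfl⟩
    rw [← commutatorElement_eq_one_iff_commute, ← map_commutatorElement, hk]
    exact commutator_mem_commutator hu hv
  have hgenQ : ∀ g : G ⧸ M, ∃ k : ℤ, ∃ a ∈ commutator (G ⧸ M), g = π c ^ k * a := fun g => by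
    obtain ⟨g, rfl⟩ := hπ g
    obtain ⟨k, a, ha, rfl⟩ := hgen g
    exact ⟨k, π a, hA ▸ mem_map_of_mem π ha, by rw [map_mul, map_zpow]⟩
  have hπc : π c ^ 5 = 1 := by rw [← map_pow, hc5, map_one]
  have hfree : ∀ B : Subgroup (G ⧸ M), B ≤ A → π c ∈ normalizer (B : Set (G ⧸ M)) →
      Nat.card B ≡ 1 [MOD 5] := fun B hB hBn => by
    refine (card_fixed_modEq hπc B hBn).trans ?_
    rw [show Nat.card {b : ↥B // Commute (π c) (b : G ⧸ M)} = 1 from Nat.card_eq_one_iff_unique.mpr
      ⟨⟨fun b b' => Subtype.ext (Subtype.ext (by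
        rw [eq_one_of_commute_derived hab hgenQ (hA ▸ hB b.1.2) b.2,
          eq_one_of_commute_derived hab hgenQ (hA ▸ hB b'.1.2) b'.2]))⟩, ⟨⟨1, Commute.one_right _⟩⟩⟩]
  haveI hAn : A.Normal := hA ▸ (inferInstance : (commutator (G ⧸ M)).Normal)
  have hcardA : Nat.card A * Nat.card M = 64 := by
    let f := π.subgroupMap S
    have hf : Function.Surjective f := π.subgroupMap_surjective S
    have h1 := card_eq_card_quotient_mul_card_subgroup f.ker
    rw [show Nat.card ↥S = 64 from hD,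
      Nat.card_congr (QuotientGroup.quotientKerEquivOfSurjective f hf).toEquiv] at h1
    rw [h1]
    congr 1
    refine (Nat.card_congr ?_).symm
    exact
      { toFun := fun z => ⟨((z : ↥S) : G), (hk _).mp (congrArg Subtype.val (MonoidHom.mem_ker.mp z.2))⟩
        invFun := fun m => ⟨⟨(m : G), hMS m.2⟩, MonoidHom.mem_ker.mpr (Subtype.ext ((hk _).mpr m.2))⟩
        left_inv := fun z => rfl
        right_inv := fun m => rfl }
  have hdvd : Nat.card A ∣ 2 ^ 6 := ⟨Nat.card M, by rw [hcardA]; norm_num⟩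
  have hAn' : ∀ B : Subgroup (G ⧸ M), B ≤ A → π c ∈ normalizer (B : Set (G ⧸ M)) →
      Nat.card B = 1 ∨ Nat.card B = 16 := fun B hB hBn =>
    eq_one_or_sixteen le_rfl ((card_dvd_of_le hB).trans hdvd) (hfree B hB hBn)
  have hA16 : Nat.card A = 16 := by
    refine (hAn' A le_rfl (le_normalizer_of_normal (mem_top _))).resolve_left fun h1 => ?_
    rw [h1, one_mul] at hcardA
    have hMeq : M = S := eq_of_le_of_card_ge hMS (by rw [hcardA]; exact hD.le)
    haveI : Group.IsNilpotent ↥S :=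
      (IsPGroup.of_card (p := 2) (n := 6) (show Nat.card ↥S = 2 ^ 6 from hD)).isNilpotent
    haveI : Group.IsSolvable ↥S := inferInstance
    haveI : Nontrivial ↥S := Finite.one_lt_card_iff_nontrivial.mp (by rw [show Nat.card ↥S = 64 from hD]; norm_num)
    have hlt := Group.IsSolvable.commutator_lt_top_of_nontrivial ↥S
    refine hlt.ne (map_injective S.subtype_injective ?_)
    rw [map_subtype_commutator, ← MonoidHom.range_eq_map, S.range_subtype]
    exact hMeq
  have hM4 : Nat.card M = 4 := by rw [hA16] at hcardA; omega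
  have hAinv : ∀ a ∈ A, a ^ 2 = 1 := by
    let B : Subgroup (G ⧸ M) :=
      { carrier := {a | a ∈ A ∧ a ^ 2 = 1}
        one_mem' := ⟨one_mem _, one_pow _⟩
        mul_mem' := fun {a b} ha hb => ⟨mul_mem ha.1 hb.1, by
          rw [(hab a (hA ▸ ha.1) b (hA ▸ hb.1)).mul_pow, ha.2, hb.2, one_mul]⟩
        inv_mem' := fun {a} ha => ⟨inv_mem ha.1, by rw [inv_pow, ha.2, inv_one]⟩ }
    have hBle : B ≤ A := fun a ha => ha.1
    have hBn : π c ∈ normalizer (B : Set (G ⧸ M)) := mem_normalizer_fintype fun n hn =>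
      ⟨hAn.conj_mem _ hn.1 _, by rw [conj_pow, hn.2, mul_one, mul_inv_cancel]⟩
    obtain ⟨a, ha⟩ := exists_prime_orderOf_dvd_card' (G := ↥A) 2 (by rw [hA16]; norm_num)
    have ha2 : a ^ 2 = 1 := ha ▸ pow_orderOf_eq_one a
    have hB1 : Nat.card B ≠ 1 := fun h => by
      have : (a : G ⧸ M) ∈ B := ⟨a.2, by rw [← SubgroupClass.coe_pow, ha2]; rfl⟩
      rw [(card_eq_one (H := B)).mp h, mem_bot] at this
      rw [OneMemClass.coe_eq_one.mp this] at ha
      simp at ha
    have hBA : B = A := eq_of_le_of_card_ge hBle (by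
      rw [(hAn' B hBle hBn).resolve_left hB1, hA16])
    intro a ha
    rw [← hBA] at ha
    exact ha.2
  have hcM : ∀ m ∈ M, Commute c m := by
    have h := card_fixed_modEq hc5 M (le_normalizer_of_normal (mem_top c))
    rw [hM4] at h
    have hle : Nat.card {b : ↥M // Commute c (b : G)} ≤ 4 := hM4 ▸ Finite.card_subtype_le _
    have h4 : Nat.card {b : ↥M // Commute c (b : G)} = 4 := by
      have h' : 4 % 5 = Nat.card {b : ↥M // Commute c (b : G)} % 5 := h
      omega
    intro m hm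
    have hbij := Subtype.val_injective.bijective_of_nat_card_le
      (f := fun b : {b : ↥M // Commute c (b : G)} => b.1) (by rw [h4, hM4])
    obtain ⟨b, hb⟩ := hbij.2 ⟨m, hm⟩
    have := b.2
    rwa [show (b.1 : G) = m from congrArg Subtype.val hb] at this
  haveI : IsMulCommutative ↥M := IsPGroup.isMulCommutative_of_card_eq_prime_sq (p := 2) hM4
  have hMC : M ≤ centralizer (M : Set G) := fun u hu => mem_centralizer_iff.mpr fun v hv => by
    exact congrArg Subtype.val (mul_comm' (⟨v, hv⟩ : ↥M) ⟨u, hu⟩)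
  have hSC : S ≤ centralizer (M : Set G) := by
    haveI : (centralizer (M : Set G)).Normal := Subgroup.normal_centralizer
    have hcC : c ∈ centralizer (M : Set G) := mem_centralizer_iff.mpr fun m hm => ((hcM m hm).eq).symm
    let ρ := QuotientGroup.mk' (centralizer (M : Set G))
    have hρ : ∀ g, ∃ a ∈ S, ρ g = ρ a := fun g => by
      obtain ⟨k, a, ha, rfl⟩ := hgen g
      refine ⟨a, ha, ?_⟩
      rw [map_mul, show ρ (c ^ k) = 1 from (QuotientGroup.eq_one_iff _).mpr (zpow_mem hcC k), one_mul]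
    refine (_root_.commutator_def G).le.trans (Subgroup.commutator_le.mpr fun g _ h _ => ?_)
    obtain ⟨a, ha, hga⟩ := hρ g
    obtain ⟨b, hb, hhb⟩ := hρ h
    apply (QuotientGroup.eq_one_iff _).mp
    show ρ ⁅g, h⁆ = 1
    rw [map_commutatorElement, hga, hhb, ← map_commutatorElement]
    exact (QuotientGroup.eq_one_iff _).mpr (hMC (commutator_mem_commutator ha hb))
  have hMcen : M ≤ center G := fun m hm => mem_center_iff.mpr fun g => by
    obtain ⟨k, a, ha, rfl⟩ := hgen g
    exact (((hcM m hm).zpow_left k).mul_left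
      (mem_centralizer_iff.mp (hSC ha) m hm).symm).eq
  have hM2 : ∀ m ∈ M, m ^ 2 = 1 := fun m hm => by
    have hmz : (⟨m, hMS hm⟩ : ↥S) ∈ center ↥S := mem_center_iff.mpr fun g =>
      Subtype.ext (mem_center_iff.mp (hMcen hm) (g : G))
    have h := Monoid.pow_exponent_eq_one (⟨_, hmz⟩ : ↥(center ↥(commutator G)))
    rw [hZ.exponent_two] at h
    simpa using congrArg (fun z : ↥(center ↥(commutator G)) => ((z : ↥(commutator G)) : G)) h
  obtain ⟨y, hy, hyne⟩ : ∃ y ∈ A, y ≠ 1 := by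
    by_contra! h
    rw [show A = ⊥ from (eq_bot_iff_forall A).mpr h, card_bot] at hA16
    norm_num at hA16
  obtain ⟨x₀, hx₀, rfl⟩ := hy
  let Y : ℕ → G ⧸ M := fun i => π c ^ i * π x₀ * (π c ^ i)⁻¹
  have hYA : ∀ i, Y i ∈ commutator (G ⧸ M) := fun i =>
    hA ▸ hAn.conj_mem _ (mem_map_of_mem π hx₀) _
  have hY4 : Y 4 = Y 0 * Y 1 * Y 2 * Y 3 := by
    have hprod : Y 0 * Y 1 * Y 2 * Y 3 * Y 4 = 1 := by
      refine eq_one_of_commute_derived hab hgenQ (mul_mem (mul_mem (mul_mem (mul_mem (hYA 0) (hYA 1))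
        (hYA 2)) (hYA 3)) (hYA 4)) ?_
      have hsh : ∀ i, π c * Y i * (π c)⁻¹ = Y (i + 1) := fun i => by
        simp only [Y, pow_succ', mul_inv_rev]; group
      have h5 : Y 5 = Y 0 := by simp [Y, hπc]
      have hcom : Commute (Y 1 * Y 2 * Y 3 * Y 4) (Y 0) := hab _
        (mul_mem (mul_mem (mul_mem (hYA 1) (hYA 2)) (hYA 3)) (hYA 4)) _ (hYA 0)
      show π c * (Y 0 * Y 1 * Y 2 * Y 3 * Y 4) = Y 0 * Y 1 * Y 2 * Y 3 * Y 4 * π c
      calc π c * (Y 0 * Y 1 * Y 2 * Y 3 * Y 4)
          = (π c * Y 0 * (π c)⁻¹) * (π c * Y 1 * (π c)⁻¹) * (π c * Y 2 * (π c)⁻¹) *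
              (π c * Y 3 * (π c)⁻¹) * (π c * Y 4 * (π c)⁻¹) * π c := by group
        _ = Y 1 * Y 2 * Y 3 * Y 4 * Y 0 * π c := by rw [hsh, hsh, hsh, hsh, hsh, h5]
        _ = Y 0 * (Y 1 * Y 2 * Y 3 * Y 4) * π c := by rw [hcom.eq]
        _ = Y 0 * Y 1 * Y 2 * Y 3 * Y 4 * π c := by group
    rw [eq_inv_of_mul_eq_one_right hprod]
    have hmem : Y 0 * Y 1 * Y 2 * Y 3 ∈ A :=
      hA ▸ mul_mem (mul_mem (mul_mem (hYA 0) (hYA 1)) (hYA 2)) (hYA 3)
    exact inv_eq_of_mul_eq_one_right (by rw [← sq]; exact hAinv _ hmem)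
  let z : G := (x₀ * (c * x₀ * c⁻¹) * (c ^ 2 * x₀ * (c ^ 2)⁻¹) * (c ^ 3 * x₀ * (c ^ 3)⁻¹))⁻¹ *
    (c ^ 4 * x₀ * (c ^ 4)⁻¹)
  have hzM : z ∈ M := by
    rw [← hk]
    simp only [z, map_mul, map_inv, map_pow]
    simp only [Y, pow_zero, one_mul, inv_one, mul_one, pow_one] at hY4
    rw [hY4, inv_mul_cancel]
  have hzc : ∀ g : G, Commute g z := fun g => mem_center_iff.mp (hMcen hzM) g
  let x := x₀ * z
  have hconj : ∀ i : ℕ, c ^ i * x * (c ^ i)⁻¹ = c ^ i * x₀ * (c ^ i)⁻¹ * z := fun i => by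
    simp only [x]
    calc c ^ i * (x₀ * z) * (c ^ i)⁻¹ = c ^ i * x₀ * (z * (c ^ i)⁻¹) := by group
      _ = c ^ i * x₀ * ((c ^ i)⁻¹ * z) := by rw [(hzc (c ^ i)⁻¹).eq]
      _ = c ^ i * x₀ * (c ^ i)⁻¹ * z := by group
  have hxS : x ∈ S := mul_mem hx₀ (hMS hzM)
  have hcomM : ∀ i : ℕ, ⁅x, c ^ i * x * (c ^ i)⁻¹⁆ ∈ M := fun i =>
    commutator_mem_commutator hxS (hSn.conj_mem _ hxS _)
  have hsq : x ^ 2 ∈ M := by
    rw [← hk, map_pow]
    exact hAinv _ (mem_map_of_mem π hxS)
  have h1 := hcomM 1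
  rw [pow_one] at h1
  have hGen : Gen c x := ⟨hc5, hMcen h1, hMcen (hcomM 2), hM2 _ h1, hM2 _ (hcomM 2), hMcen hsq,
    by rw [show (4 : ℕ) = 2 * 2 from rfl, pow_mul]; exact hM2 _ hsq, by
      have e1 := hconj 1
      rw [pow_one] at e1
      rw [hconj 4, hconj 2, hconj 3, e1]
      have hzz : z * z = 1 := by rw [← sq]; exact hM2 _ hzM
      have he : c ^ 4 * x₀ * (c ^ 4)⁻¹ = x₀ * (c * x₀ * c⁻¹) * (c ^ 2 * x₀ * (c ^ 2)⁻¹) *
          (c ^ 3 * x₀ * (c ^ 3)⁻¹) * z := by simp only [z]; group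
      rw [he]
      simp only [x]
      generalize c * x₀ * c⁻¹ = p
      generalize c ^ 2 * x₀ * (c ^ 2)⁻¹ = q
      generalize c ^ 3 * x₀ * (c ^ 3)⁻¹ = r
      calc x₀ * p * q * r * z * z = x₀ * p * q * r * (z * z) := by group
        _ = x₀ * p * q * r * ((z * z) * (z * z)) := by rw [hzz, one_mul]
        _ = x₀ * z * (p * z) * (q * z) * (r * z) := by
          simp only [mul_assoc, ← (hzc p).eq, ← (hzc q).eq, ← (hzc r).eq, (hzc p).left_comm,
            (hzc q).left_comm, (hzc r).left_comm]⟩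
  have htop : closure ({c, x} : Set G) = ⊤ := by
    let K : Subgroup G := closure ({c, x} : Set G)
    have hcK : c ∈ K := subset_closure (Set.mem_insert _ _)
    have hxK : x ∈ K := subset_closure (Set.mem_insert_of_mem _ rfl)
    have hKA : A ≤ K.map π := by
      have hn : π c ∈ normalizer ((K.map π ⊓ A : Subgroup (G ⧸ M)) : Set (G ⧸ M)) :=
        mem_normalizer_fintype fun n hn => by
          have hc' : π c ∈ K.map π := mem_map_of_mem π hcK
          exact ⟨(K.map π).mul_mem ((K.map π).mul_mem hc' hn.1) ((K.map π).inv_mem hc'),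
            hAn.conj_mem _ hn.2 _⟩
      have h1 : Nat.card ↥(K.map π ⊓ A) ≠ 1 := fun h => by
        have hmem : π x ∈ K.map π ⊓ A := ⟨mem_map_of_mem π hxK, mem_map_of_mem π hxS⟩
        rw [card_eq_one.mp h, mem_bot] at hmem
        simp only [x, map_mul, (hk z).mpr hzM, mul_one] at hmem
        exact hyne hmem
      exact inf_eq_right.mp (eq_of_le_of_card_ge inf_le_right
        (by rw [(hAn' _ inf_le_right hn).resolve_left h1, hA16]))
    have hSK : ∀ s ∈ S, ∃ k ∈ K, ∃ m ∈ M, s = k * m := fun s hs => by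
      obtain ⟨k, hk', he⟩ := hKA (mem_map_of_mem π hs)
      exact ⟨k, hk', k⁻¹ * s, (hk _).mp (by rw [map_mul, map_inv, he, inv_mul_cancel]), by group⟩
    have hMK : M ≤ K := by
      show ⁅S, S⁆ ≤ K
      rw [Subgroup.commutator_le]
      intro u hu v hv
      obtain ⟨k, hk1, m, hm, rfl⟩ := hSK u hu
      obtain ⟨l, hl1, n, hn, rfl⟩ := hSK v hv
      have hm' : ∀ g, Commute g m := fun g => mem_center_iff.mp (hMcen hm) g
      have hn' : ∀ g, Commute g n := fun g => mem_center_iff.mp (hMcen hn) g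
      have e : ⁅k * m, l * n⁆ = ⁅k, l⁆ := by
        simp only [commutatorElement_def, mul_inv_rev]
        calc k * m * (l * n) * (m⁻¹ * k⁻¹) * (n⁻¹ * l⁻¹)
            = k * (m * l) * (n * m⁻¹) * (k⁻¹ * n⁻¹) * l⁻¹ := by group
          _ = k * (l * m) * (m⁻¹ * n) * (n⁻¹ * k⁻¹) * l⁻¹ := by
            rw [← (hm' l).eq, ← (hn' m⁻¹).eq, ((hn' k⁻¹).inv_right).eq]
          _ = k * l * k⁻¹ * l⁻¹ := by group
      rw [e, commutatorElement_def]
      exact mul_mem (mul_mem (mul_mem hk1 hl1) (inv_mem hk1)) (inv_mem hl1)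
    rw [eq_top_iff]
    intro g _
    obtain ⟨k, a, ha, rfl⟩ := hgen g
    obtain ⟨l, hl, m, hm, rfl⟩ := hSK a ha
    exact mul_mem (zpow_mem hcK k) (mul_mem hl (hMK hm))
  refine ⟨c, x, hGen, htop, fun s hs hsS => ?_⟩
  have hWM : commW c x ≤ M := (closure_le _).mpr (by
    rintro g (rfl | rfl); exacts [h1, hcomM 2])
  have hWeq : commW c x = M := eq_of_le_of_card_ge hWM (by rw [hGen.commW_card_eq htop hG, hM4])
  rw [hWeq, ← hk]
  refine eq_one_of_commute_derived hab hgenQ (hA ▸ mem_map_of_mem π hsS) ?_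
  exact Commute.map (mem_center_iff.mp hs c) π

end CfsgLib.U34Cent
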