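import Cfsg.Agent.Lib.U34Cent.Source
import Cfsg.Agent.Lib.SylowU3.Model
import Cfsg.Agent.Lib.Transfer.PGroup
import Cfsg.Agent.Lib.Classical.Herm.Std

/-!
The centralizer of an involution of `SU₃(4)` realises the generators and relations `Gen`.
-/

set_option autoImplicit false

open Subgroup Matrix
open scoped commutatorElement Pointwise

namespace CfsgLib.U34Cent

open CfsgLib.SylowU3

variable {F : Type*} [Field F] {s : F →+* F} {a : F}

theorem uM_zero_zero : uM s (0 : F) 0 = 1 := by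
  ext i j; fin_cases i <;> fin_cases j <;> simp [coe_mul3, coe_one3]

theorem uM_commutator {q : ℕ} (hF : UField F s q) (z y w u : F) :
    ⁅uM s z y, uM s w u⁆ = uM s 0 (s z * w + s w * z) := by
  have h : uM s z y * uM s w u = uM s 0 (s z * w + s w * z) * (uM s w u * uM s z y) := by
    rw [uM_mul hF, uM_mul hF, uM_mul hF]
    refine uM_ext s (by ring) ?_
    simp only [map_zero, zero_mul, add_zero]
    linear_combination (-1 : F) * hF.two (s w * z)
  rw [commutatorElement_def]
  calc uM s z y * uM s w u * (uM s z y)⁻¹ * (uM s w u)⁻¹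
      = uM s 0 (s z * w + s w * z) * (uM s w u * uM s z y) * (uM s z y)⁻¹ * (uM s w u)⁻¹ := by rw [h]
    _ = uM s 0 (s z * w + s w * z) := by group

theorem uM_inj {z y z' y' : F} (h : uM s z y = uM s z' y') : z = z' ∧ y = y' := by
  refine ⟨?_, ?_⟩
  · simpa using congrArg (fun g : SpecialLinearGroup (Fin 3) F => (g : Matrix (Fin 3) (Fin 3) F) 1 2) h
  · simpa using congrArg (fun g : SpecialLinearGroup (Fin 3) F => (g : Matrix (Fin 3) (Fin 3) F) 0 2) h

/-- The diagonal element of order five. -/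
def cD (l : F) (hl : l ^ 5 = 1) : SpecialLinearGroup (Fin 3) F :=
  ⟨!![l, 0, 0; 0, l ^ 3, 0; 0, 0, l], by
    rw [det_fin_three]
    simp
    linear_combination hl⟩

theorem cD_conj {q : ℕ} (hF : UField F s q) {l : F} (hl : l ^ 5 = 1) (hsl : s l = l ^ 4) (z y : F) :
    cD l hl * uM s z y * (cD l hl)⁻¹ = uM s (l ^ 2 * z) y := by
  rw [mul_inv_eq_iff_eq_mul]
  apply Subtype.ext
  rw [coe_mul3, coe_mul3]
  ext i j
  fin_cases i <;> fin_cases j <;>
    simp [cD, uM, coe_mul3, Matrix.mul_apply, Fin.sum_univ_three, map_pow, hsl] <;> try ring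
  linear_combination (-(l * s z * (l ^ 5 + 1))) * hl

theorem cD_pow_conj {q : ℕ} (hF : UField F s q) {l : F} (hl : l ^ 5 = 1) (hsl : s l = l ^ 4) (z y : F)
    (i : ℕ) : cD l hl ^ i * uM s z y * (cD l hl ^ i)⁻¹ = uM s ((l ^ 2) ^ i * z) y := by
  induction i with
  | zero => simp
  | succ i ih =>
    rw [pow_succ', _root_.mul_inv_rev,
      show cD l hl * cD l hl ^ i * uM s z y * ((cD l hl ^ i)⁻¹ * (cD l hl)⁻¹) =
        cD l hl * (cD l hl ^ i * uM s z y * (cD l hl ^ i)⁻¹) * (cD l hl)⁻¹ by group,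
      ih, cD_conj hF hl hsl, pow_succ' (l ^ 2), mul_assoc]

theorem cD_pow_five {l : F} (hl : l ^ 5 = 1) : cD l hl ^ 5 = 1 := by
  apply Subtype.ext
  rw [coe_pow3, coe_one3]
  have h : ((cD l hl : SpecialLinearGroup (Fin 3) F) : Matrix (Fin 3) (Fin 3) F) =
      diagonal ![l, l ^ 3, l] := by
    ext i j; fin_cases i <;> fin_cases j <;> simp [cD]
  rw [h, diagonal_pow, ← diagonal_one]
  congr 1
  funext i
  fin_cases i <;> simp [← pow_mul, hl]
  rw [show (15 : ℕ) = 5 * 3 from rfl, pow_mul, hl, one_pow]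

theorem exists_root_five [Fintype F] (hcard : Fintype.card F = 16) :
    ∃ l : F, l ^ 5 = 1 ∧ l ≠ 1 := by
  haveI : Fact (Nat.Prime 5) := ⟨by norm_num⟩
  obtain ⟨u, hu⟩ := exists_prime_orderOf_dvd_card' (G := Fˣ) 5 (by
    rw [Nat.card_units, Nat.card_eq_fintype_card, hcard]; norm_num)
  refine ⟨(u : F), ?_, ?_⟩
  · rw [← Units.val_pow_eq_pow_val, ← hu, pow_orderOf_eq_one, Units.val_one]
  · intro h
    rw [Units.val_eq_one] at h
    rw [h, orderOf_one] at hu
    norm_num at hu

theorem sum_pow_eq_zero {m : F} (hm : m ^ 5 = 1) (hm1 : m ≠ 1) :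
    1 + m + m ^ 2 + m ^ 3 + m ^ 4 = 0 := by
  refine (mul_eq_zero.mp (show (m - 1) * (1 + m + m ^ 2 + m ^ 3 + m ^ 4) = 0 by
    linear_combination hm)).resolve_left ?_
  exact sub_ne_zero.mpr hm1

/-- The model of the centralizer of the central involution. -/
def involCent {q : ℕ} (t : ↥(uK (F := F) a q)) : Subgroup ↥(uK (F := F) a q) := centralizer {t}

section Cent

variable {q : ℕ}

theorem shape (hF : UField F s q) (ha : a + s a = 1) (hs : ∀ x, s x = x ^ q)
    {N : SpecialLinearGroup (Fin 3) F} (hN : N ∈ uK a q) (hc : Commute N (uM s 0 1)) :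
    ∃ d z u : F, d * s d = 1 ∧ d ^ 2 * (N : Matrix (Fin 3) (Fin 3) F) 1 1 = 1 ∧
      u + s u = z * s z ∧
      (N : Matrix (Fin 3) (Fin 3) F) =
        !![d, (N : Matrix (Fin 3) (Fin 3) F) 0 1, d * u; 0, (N : Matrix (Fin 3) (Fin 3) F) 1 1, d * z; 0, 0, d] ∧
      (N : Matrix (Fin 3) (Fin 3) F) 0 1 = -((N : Matrix (Fin 3) (Fin 3) F) 1 1 * s z * (s d * d)) := by
  have hm := congrArg (fun g : SpecialLinearGroup (Fin 3) F => (g : Matrix (Fin 3) (Fin 3) F)) hc.eq
  simp only [coe_mul3] at hm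
  have hpres := (mem_uK_iff hF ha hs N).mp hN
  have hdet := N.2
  set M := (N : Matrix (Fin 3) (Fin 3) F) with hM
  have e10 := congrFun (congrFun hm 1) 2
  have e00 := congrFun (congrFun hm 0) 0
  have e01 := congrFun (congrFun hm 0) 1
  have e02 := congrFun (congrFun hm 0) 2
  simp [coe_mul3, Matrix.mul_apply, Fin.sum_univ_three] at e00 e01 e02 e10
  have h20 : M 2 0 = 0 := e00
  have h21 : M 2 1 = 0 := e01
  have h10 : M 1 0 = 0 := e10
  have h22 : M 2 2 = M 0 0 := by linear_combination -e02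
  rw [det_fin_three, h20, h21, h10, h22] at hdet
  simp at hdet
  have p02 := congrFun (congrFun hpres 0) 2
  have p12 := congrFun (congrFun hpres 1) 2
  have p22 := congrFun (congrFun hpres 2) 2
  simp [uJ, Matrix.mul_apply, Fin.sum_univ_three, h20, h21, h10, h22] at p02 p12 p22
  have hd : M 0 0 * s (M 0 0) = 1 := p02
  have hd0 : M 0 0 ≠ 0 := fun h => by rw [h, zero_mul] at hd; exact zero_ne_one hd
  refine ⟨M 0 0, (M 0 0)⁻¹ * M 1 2, (M 0 0)⁻¹ * M 0 2, hd, ?_, ?_, ?_, ?_⟩
  · linear_combination hdet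
  · have hsd : s (M 0 0)⁻¹ = M 0 0 := by
      rw [map_inv₀]
      exact inv_eq_of_mul_eq_one_left hd
    simp only [map_mul, hsd]
    have hinv : (M 0 0)⁻¹ = s (M 0 0) := inv_eq_of_mul_eq_one_right hd
    rw [hinv]
    have h2 := hF.two (M 1 2 * s (M 1 2))
    linear_combination p22 - h2 - (M 1 2 * s (M 1 2)) * hd
  · ext i j
    fin_cases i <;> fin_cases j <;> simp [h20, h21, h10, h22, hd0]
  · have hsd : s (M 0 0)⁻¹ = M 0 0 := by
      rw [map_inv₀]
      exact inv_eq_of_mul_eq_one_left hd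
    rw [map_mul, hsd]
    linear_combination (M 0 0) * p12 - M 0 1 * hd + (M 1 1 * s (M 1 2) * M 0 0) * hd

theorem card_involCent_le [Fintype F] (hF : UField F s q) (ha : a + s a = 1)
    (hs : ∀ x, s x = x ^ q) (hq : q = 4) {t : ↥(uK (F := F) a q)}
    (ht : (t : SpecialLinearGroup (Fin 3) F) = uM s 0 1) :
    Nat.card ↥(involCent t) ≤ 320 := by
  have hc : ∀ g : ↥(involCent t), Commute ((g : ↥(uK a q)) : SpecialLinearGroup (Fin 3) F) (uM s 0 1) := by
    intro g
    rw [← ht]
    exact (congrArg Subtype.val (mem_centralizer_singleton_iff.mp g.2) :)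
  choose d z u hd hm hu hmat h01 using fun g : ↥(involCent t) => shape hF ha hs (g : ↥(uK a q)).2 (hc g)
  have hsum : Nat.card (Σ w : F, {v : F // v + s v = w * s w}) = q ^ 2 * q := by
    rw [Nat.card_sigma, Finset.sum_congr rfl (fun w _ => hF.card_trace (w * s w)
      (by rw [map_mul, hF.invol, mul_comm])), Finset.sum_const, smul_eq_mul,
      Finset.card_univ, ← Nat.card_eq_fintype_card, hF.card_all]
  have hroots : Nat.card {v : F // v ^ 5 = 1} ≤ 5 := by
    classical
    rw [Nat.card_eq_fintype_card, Fintype.card_subtype]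
    calc (Finset.univ.filter fun v : F => v ^ 5 = 1).card
        ≤ (Polynomial.nthRootsFinset 5 (1 : F)).card := Finset.card_le_card fun v hv => by
          rw [Polynomial.mem_nthRootsFinset (by norm_num)]
          exact (Finset.mem_filter.mp hv).2
      _ ≤ 5 := by
          rw [Polynomial.nthRootsFinset_def]
          exact (Multiset.toFinset_card_le _).trans (Polynomial.card_nthRoots 5 1)
  refine le_trans (Nat.card_le_card_of_injective
    (fun g => ((⟨d g, by rw [pow_succ', ← hq, ← hs]; exact hd g⟩ : {v : F // v ^ 5 = 1}),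
      (⟨z g, u g, hu g⟩ : Σ w : F, {v : F // v + s v = w * s w}))) ?_) ?_
  · intro g g' h
    have h1 : d g = d g' := congrArg (fun p : {v : F // v ^ 5 = 1} × (Σ w : F, {v : F // v + s v = w * s w}) => (p.1 : F)) h
    have h2 : z g = z g' := congrArg (fun p : {v : F // v ^ 5 = 1} × (Σ w : F, {v : F // v + s v = w * s w}) => p.2.1) h
    have h3 : u g = u g' := congrArg (fun p : {v : F // v ^ 5 = 1} × (Σ w : F, {v : F // v + s v = w * s w}) => (p.2.2 : F)) h
    have hd0 : d g' ^ 2 ≠ 0 := fun h0 => by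
      have := hm g'
      rw [h0, zero_mul] at this
      exact zero_ne_one this
    have h11 := mul_left_cancel₀ hd0 ((h1 ▸ hm g).trans (hm g').symm)
    apply Subtype.ext; apply Subtype.ext; apply Subtype.ext
    rw [hmat g, hmat g', h01 g, h01 g', h1, h2, h3, h11]
  · rw [Nat.card_prod, hsum, hq]
    exact Nat.mul_le_mul hroots le_rfl

theorem uM_zero_mem_center (hF : UField F s q) (ha : a + s a = 1) (hs : ∀ x, s x = x ^ q)
    {t : ↥(uK (F := F) a q)} (ht : (t : SpecialLinearGroup (Fin 3) F) = uM s 0 1) {g : ↥(involCent t)} {v : F}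
    (hg : ((g : ↥(uK a q)) : SpecialLinearGroup (Fin 3) F) = uM s 0 v) : g ∈ center ↥(involCent t) := by
  refine mem_center_iff.mpr fun n => ?_
  have hc : Commute ((n : ↥(uK a q)) : SpecialLinearGroup (Fin 3) F) (uM s 0 1) := by
    rw [← ht]
    exact (congrArg Subtype.val (mem_centralizer_singleton_iff.mp n.2) :)
  obtain ⟨d, z, u, -, -, -, hmat, -⟩ := shape hF ha hs (n : ↥(uK a q)).2 hc
  apply Subtype.ext; apply Subtype.ext; apply Subtype.ext
  show ((n : ↥(uK a q)) : Matrix (Fin 3) (Fin 3) F) * ((g : ↥(uK a q)) : Matrix (Fin 3) (Fin 3) F) =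
    ((g : ↥(uK a q)) : Matrix (Fin 3) (Fin 3) F) * ((n : ↥(uK a q)) : Matrix (Fin 3) (Fin 3) F)
  rw [hg, hmat]
  ext i j
  fin_cases i <;> fin_cases j <;> simp [Matrix.mul_apply, Fin.sum_univ_three] <;> ring

theorem exists_gen_target [Fintype F] (hF : UField F s q) (ha : a + s a = 1)
    (hs : ∀ x, s x = x ^ q) (hq : q = 4) :
    ∃ (t : ↥(uK (F := F) a q)) (c x : ↥(involCent t)), orderOf t = 2 ∧ Gen c x ∧
      4 ≤ Nat.card ↥(commW c x) ∧ Nat.card ↥(involCent t) ≤ 320 ∧ orderOf c = 5 := by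
  have hcard : Fintype.card F = 16 := by
    rw [← Nat.card_eq_fintype_card, hF.card_all, hq]; norm_num
  obtain ⟨l, hl, hl1⟩ := exists_root_five hcard
  have hsl : s l = l ^ 4 := by rw [hs, hq]
  obtain ⟨m, hmdef⟩ : ∃ m : F, m = l ^ 2 := ⟨_, rfl⟩
  have hm : m ^ 5 = 1 := by rw [hmdef, ← pow_mul, show 2 * 5 = 5 * 2 from rfl, pow_mul, hl, one_pow]
  have hm1 : m ≠ 1 := fun h => hl1 (by
    calc l = l * (l ^ 2) ^ 2 := by rw [← hmdef, h]; ring
      _ = 1 := by linear_combination hl)
  have hsum := sum_pow_eq_zero hm hm1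
  have hsm : s m = m ^ 4 := by
    rw [hmdef, map_pow, hsl, ← pow_mul, ← pow_mul]
  have hy : m + m ^ 3 + s (m + m ^ 3) = 1 * s 1 := by
    rw [map_add, map_pow, hsm, map_one]
    linear_combination hsum + m ^ 2 * (m ^ 5 + 1) * hm - hF.two 1
  have htm : uM s 0 (1 : F) ∈ uK a q := uM_mem hF ha hs (by simp [hF.two])
  have hcm : cD l hl ∈ uK a q := by
    rw [mem_uK_iff hF ha hs]
    ext i j
    fin_cases i <;> fin_cases j <;>
      simp [cD, uJ, Matrix.mul_apply, Fin.sum_univ_three, map_pow, hsl] <;>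
      first
      | linear_combination hl
      | linear_combination (l ^ 10 + l ^ 5 + 1) * hl
  have hxm : uM s 1 (m + m ^ 3) ∈ uK a q := uM_mem hF ha hs hy
  let t : ↥(uK a q) := ⟨_, htm⟩
  have hcc : (⟨_, hcm⟩ : ↥(uK a q)) ∈ involCent t := by
    refine mem_centralizer_singleton_iff.mpr (Subtype.ext ?_)
    show cD l hl * uM s 0 1 = uM s 0 1 * cD l hl
    calc cD l hl * uM s 0 1 = cD l hl * uM s 0 1 * (cD l hl)⁻¹ * cD l hl := by group
      _ = uM s 0 1 * cD l hl := by rw [cD_conj hF hl hsl, mul_zero]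
  have hxc : (⟨_, hxm⟩ : ↥(uK a q)) ∈ involCent t := by
    refine mem_centralizer_singleton_iff.mpr (Subtype.ext ?_)
    show uM s 1 (m + m ^ 3) * uM s 0 1 = uM s 0 1 * uM s 1 (m + m ^ 3)
    rw [uM_mul hF, uM_mul hF]
    exact uM_ext s (by ring) (by simp only [map_zero, map_one]; ring)
  let c : ↥(involCent t) := ⟨_, hcc⟩
  let x : ↥(involCent t) := ⟨_, hxc⟩
  let v : ↥(involCent t) → SpecialLinearGroup (Fin 3) F := fun g => ((g : ↥(uK a q)) : SpecialLinearGroup (Fin 3) F)
  have hvinj : Function.Injective v := fun g h e => Subtype.ext (Subtype.ext e)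
  have hconj : ∀ i : ℕ, v (c ^ i * x * (c ^ i)⁻¹) = uM s (m ^ i * 1) (m + m ^ 3) := fun i => by
    rw [show m ^ i * 1 = (l ^ 2) ^ i * 1 by rw [hmdef], ← cD_pow_conj hF hl hsl]
    simp [v, c, x]
  have hvmul : ∀ g h, v (g * h) = v g * v h := fun g h => rfl
  have hv1 : v 1 = 1 := rfl
  have hcom : ∀ i : ℕ, v ⁅x, c ^ i * x * (c ^ i)⁻¹⁆ = uM s 0 (m ^ i + s (m ^ i)) := fun i => by
    have h : v ⁅x, c ^ i * x * (c ^ i)⁻¹⁆ = ⁅v x, v (c ^ i * x * (c ^ i)⁻¹)⁆ := by
      simp [v, commutatorElement_def]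
    rw [h, hconj, show v x = uM s 1 (m + m ^ 3) from rfl, uM_commutator hF]
    exact uM_ext s rfl (by simp only [map_one, mul_one, one_mul])
  have hcom1 : v ⁅x, c * x * c⁻¹⁆ = uM s 0 (m + m ^ 4) := by
    have := hcom 1
    simp only [pow_one] at this
    rw [this, hsm]
  have hcom2 : v ⁅x, c ^ 2 * x * (c ^ 2)⁻¹⁆ = uM s 0 (m ^ 2 + m ^ 3) := by
    rw [hcom 2, map_pow, hsm]
    exact uM_ext s rfl (by linear_combination m ^ 3 * hm)
  have hcen : ∀ {g : ↥(involCent t)} {w : F}, v g = uM s 0 w → g ∈ center ↥(involCent t) :=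
    fun {g w} hg => uM_zero_mem_center hF ha hs (t := t) rfl hg
  have hzero : ∀ w : F, uM s 0 w * uM s 0 w = 1 := fun w => by
    rw [uM_mul hF, ← uM_zero_zero (s := s)]
    exact uM_ext s (by ring) (by simp [hF.two])
  have hinv : ∀ {g : ↥(involCent t)} {w : F}, v g = uM s 0 w → g ^ 2 = 1 :=
    fun {g w} hg => hvinj (by rw [sq, hvmul, hg, hv1, hzero])
  have hxx : v (x ^ 2) = uM s 0 1 := by
    rw [sq, hvmul, show v x = uM s 1 (m + m ^ 3) from rfl, uM_mul hF]
    exact uM_ext s (hF.two 1) (by rw [map_one, one_mul]; linear_combination hF.two (m + m ^ 3))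
  have hG : Gen c x :=
    ⟨hvinj (show cD l hl ^ 5 = 1 from cD_pow_five hl), hcen hcom1, hcen hcom2, hinv hcom1, hinv hcom2,
      hcen hxx, by rw [show (4 : ℕ) = 2 * 2 from rfl, pow_mul]; exact hinv hxx, by
      apply hvinj
      have h1 := hconj 1
      simp only [pow_one] at h1
      rw [hconj 4, hvmul, hvmul, hvmul, hconj 2, hconj 3, h1,
        show v x = uM s 1 (m + m ^ 3) from rfl, uM_mul hF, uM_mul hF, uM_mul hF]
      refine uM_ext s ?_ ?_
      · show m ^ 4 * 1 = 1 + m * 1 + m ^ 2 * 1 + m ^ 3 * 1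
        linear_combination hsum - hF.two (1 + m + m ^ 2 + m ^ 3)
      · simp only [map_add, map_mul, map_pow, map_one]
        show m + m ^ 3 = m + m ^ 3 + (m + m ^ 3) + 1 * (m * 1) + (m + m ^ 3) +
          (1 + s m * 1) * (m ^ 2 * 1) + (m + m ^ 3) + (1 + s m * 1 + s m ^ 2 * 1) * (m ^ 3 * 1)
        rw [hsm]
        linear_combination (m ^ 2 - (m + m ^ 6 + m ^ 2 + m + m ^ 2)) * hm - hF.two (m + m ^ 3) - hF.two (m + m ^ 2) - hF.two (m + m ^ 3)⟩
  refine ⟨t, c, x, ?_, hG, ?_, card_involCent_le hF ha hs hq rfl, ?_⟩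
  · refine orderOf_eq_prime (Subtype.ext ?_) fun h => ?_
    · show uM s 0 1 ^ 2 = 1
      rw [sq, hzero]
    · have h' : uM s 0 (1 : F) = uM s 0 0 := (congrArg Subtype.val h).trans (uM_zero_zero (s := s)).symm
      exact one_ne_zero (uM_inj h').2
  · let A := ⁅x, c * x * c⁻¹⁆
    let B := ⁅x, c ^ 2 * x * (c ^ 2)⁻¹⁆
    have hA : A ∈ commW c x := subset_closure (Set.mem_insert _ _)
    have hB : B ∈ commW c x := subset_closure (Set.mem_insert_of_mem _ rfl)
    have hAB : v (A * B) = uM s 0 1 := by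
      rw [hvmul, hcom1, hcom2, uM_mul hF]
      exact uM_ext s (by ring) (by rw [map_zero]; linear_combination hsum - hF.two 1)
    let f : Fin 4 → ↥(commW c x) := ![1, ⟨A, hA⟩, ⟨B, hB⟩, ⟨A * B, mul_mem hA hB⟩]
    have hf : ∀ i, v (f i : ↥(involCent t)) = uM s 0 (![0, m + m ^ 4, m ^ 2 + m ^ 3, 1] i) := by
      intro i
      fin_cases i
      · exact (uM_zero_zero (s := s)).symm
      · exact hcom1
      · exact hcom2
      · exact hAB
    have h0 : m ≠ 0 := fun h => by rw [h] at hm; norm_num at hm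
    have hA0 : m + m ^ 4 ≠ 0 := fun h => hm1 (by
      have h3 : m ^ 3 = 1 := mul_left_cancel₀ h0 (by linear_combination h - hF.two m)
      calc m = m * (m ^ 3) ^ 3 := by rw [h3]; ring
        _ = 1 := by linear_combination (m ^ 5 + 1) * hm)
    have hB0 : m ^ 2 + m ^ 3 ≠ 0 := fun h => hm1 (mul_left_cancel₀ (pow_ne_zero 2 h0)
      (by linear_combination h - hF.two (m ^ 2)))
    have hAB0 : m + m ^ 4 ≠ m ^ 2 + m ^ 3 := fun h => one_ne_zero (α := F) (by
      linear_combination hsum - h - hF.two (m ^ 2 + m ^ 3))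
    have hA1 : m + m ^ 4 ≠ 1 := fun h => hB0 (by linear_combination hsum - h - hF.two 1)
    have hB1 : m ^ 2 + m ^ 3 ≠ 1 := fun h => hA0 (by linear_combination hsum - h - hF.two 1)
    have hfi : Function.Injective f := fun i j hij => by
      have h := (uM_inj ((hf i).symm.trans ((congrArg (fun g : ↥(commW c x) => v (g : ↥(involCent t))) hij).trans (hf j)))).2
      fin_cases i <;> fin_cases j <;> simp at h ⊢ <;>
        first
        | exact hA0 h | exact hA0 h.symm | exact hB0 h | exact hB0 h.symm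
        | exact hAB0 h | exact hAB0 h.symm | exact hA1 h | exact hA1 h.symm
        | exact hB1 h | exact hB1 h.symm
    simpa using Nat.card_le_card_of_injective f hfi
  · haveI : Fact (Nat.Prime 5) := ⟨by norm_num⟩
    refine orderOf_eq_prime hG.c5 fun h => hl1 ?_
    simpa [v, c, cD, coe_one3] using congrArg (fun g : SpecialLinearGroup (Fin 3) F => (g : Matrix (Fin 3) (Fin 3) F) 0 0) (congrArg v h)

end Cent

/-- Every group of the given shape is isomorphic to the model centralizer. -/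
theorem equiv_target {G : Type*} [Group G] [Finite G] (hG : Nat.card G = 320)
    (hD : Nat.card (commutator G) = 64) (hZ : IsKleinFour (Subgroup.center (commutator G)))
    {H : Type*} [Group H] [Finite H] {c' x' : H} (h' : Gen c' x') (hW : 4 ≤ Nat.card ↥(commW c' x'))
    (hH : Nat.card H ≤ 320) (ho : orderOf c' = 5) : Nonempty (G ≃* H) := by
  haveI : Fact (Nat.Prime 2) := ⟨Nat.prime_two⟩
  obtain ⟨c, x, hg, htop, hcenW⟩ := exists_gen hG hD hZ
  obtain ⟨ψ, hψc, hψx⟩ := exists_hom_of_gen hg h' htop hG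
  have hidx : Nat.card (G ⧸ commutator G) = 5 := by
    have := card_eq_card_quotient_mul_card_subgroup (commutator G)
    rw [hG, hD] at this
    omega
  let f : ↥(commW c x) → ↥(commW c' x') := fun w => ⟨ψ w, by
    have hle : (commW c x).map ψ = commW c' x' := by
      rw [commW, MonoidHom.map_closure, Set.image_pair]
      simp only [map_commutatorElement, map_mul, map_inv, map_pow, hψc, hψx, commW]
    exact hle ▸ mem_map_of_mem ψ w.2⟩
  have hfs : Function.Surjective f := fun w => by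
    have hle : (commW c x).map ψ = commW c' x' := by
      rw [commW, MonoidHom.map_closure, Set.image_pair]
      simp only [map_commutatorElement, map_mul, map_inv, map_pow, hψc, hψx, commW]
    obtain ⟨u, hu, he⟩ := (hle.ge w.2 : (w : H) ∈ (commW c x).map ψ)
    exact ⟨⟨u, hu⟩, Subtype.ext he⟩
  have hfi : Function.Injective f :=
    (hfs.bijective_of_nat_card_le (by rw [hg.commW_card_eq htop hG]; exact hW)).1
  have hcS : c ∉ commutator G := fun h => by
    have h5 : ψ c ^ 64 = 1 := by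
      rw [← map_pow, show c ^ 64 = 1 from congrArg Subtype.val (hD ▸ pow_card_eq_one' (x := (⟨c, h⟩ : ↥(commutator G)))), map_one]
    rw [hψc] at h5
    have := orderOf_dvd_of_pow_eq_one h5
    rw [ho] at this
    norm_num at this
  have hker : ψ.ker ≤ commutator G := fun n hn => by
    have htopq := zpowers_eq_top_of_prime_card (hp := ⟨by norm_num⟩) (g := (c : G ⧸ commutator G)) hidx
      (fun h => hcS ((QuotientGroup.eq_one_iff _).mp h))
    obtain ⟨k, hk⟩ := mem_zpowers_iff.mp (htopq ▸ mem_top (n : G ⧸ commutator G))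
    rw [← QuotientGroup.mk_zpow] at hk
    have hmem : (c ^ k)⁻¹ * n ∈ commutator G := QuotientGroup.eq.mp hk
    have h64 : ψ ((c ^ k)⁻¹ * n) ^ 64 = 1 := by
      rw [← map_pow, show ((c ^ k)⁻¹ * n) ^ 64 = 1 from congrArg Subtype.val (hD ▸ pow_card_eq_one' (x := (⟨_, hmem⟩ : ↥(commutator G)))), map_one]
    rw [map_mul, map_inv, MonoidHom.mem_ker.mp hn, mul_one, map_zpow, hψc, inv_pow, inv_eq_one,
      ← zpow_natCast, ← _root_.zpow_mul, ← orderOf_dvd_iff_zpow_eq_one, ho] at h64
    have h5k : (5 : ℤ) ∣ k := by push_cast at h64; omega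
    have hck : c ^ k = 1 := by
      obtain ⟨j, rfl⟩ := h5k
      rw [_root_.zpow_mul, show c ^ (5 : ℤ) = 1 by exact_mod_cast hg.c5, _root_.one_zpow]
    rwa [hck, inv_one, one_mul] at hmem
  have hinj : Function.Injective ψ := by
    rw [← ψ.ker_eq_bot_iff]
    by_contra hne
    haveI : Group.IsNilpotent ↥(commutator G) :=
      (IsPGroup.of_card (p := 2) (n := 6) (show Nat.card ↥(commutator G) = 2 ^ 6 from hD)).isNilpotent
    haveI : (ψ.ker.subgroupOf (commutator G)).Normal := (MonoidHom.normal_ker ψ).subgroupOf _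
    obtain ⟨⟨w, hw⟩, hmem, hwn⟩ := (Subgroup.bot_or_exists_ne_one _).resolve_left
      (CfsgLib.Transfer.inf_center_ne_bot (N := ψ.ker.subgroupOf (commutator G)) (fun h0 => hne (by
        have := congrArg (Subgroup.map (commutator G).subtype) h0
        rwa [subgroupOf_map_subtype, inf_eq_left.mpr hker, Subgroup.map_bot] at this)))
    obtain ⟨hwk, hwz⟩ := hmem
    have hWle : commW c x ≤ (center ↥(commutator G)).map (commutator G).subtype := by
      intro u hu
      have huS : u ∈ commutator G := ((closure_le _).mpr (by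
        rintro g (rfl | rfl) <;> exact commutator_mem_commutator (mem_top _) (mem_top _)) : commW c x ≤ commutator G) hu
      exact ⟨⟨u, huS⟩, mem_center_iff.mpr fun g => Subtype.ext (mem_center_iff.mp (hg.commW_le_center hu) (g : G)), rfl⟩
    have hWeq : commW c x = (center ↥(commutator G)).map (commutator G).subtype :=
      eq_of_le_of_card_ge hWle (by
        rw [hg.commW_card_eq htop hG, Nat.card_congr (equivMapOfInjective _ _
          (commutator G).subtype_injective).toEquiv.symm, hZ.card_four])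
    have hwW : w ∈ commW c x := hWeq.ge ⟨⟨w, hw⟩, hwz, rfl⟩
    have := @hfi ⟨w, hwW⟩ 1 (Subtype.ext (by
      show ψ w = ψ ((1 : ↥(commW c x)) : G)
      rw [OneMemClass.coe_one, map_one]
      exact MonoidHom.mem_ker.mp hwk))
    exact hwn (Subtype.ext (congrArg (fun z : ↥(commW c x) => (z : G)) this))
  exact ⟨MulEquiv.ofBijective ψ (hinj.bijective_of_nat_card_le (by rw [hG]; exact hH))⟩

end CfsgLib.U34Cent
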